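import Groth.Agent.HenselLib.KummerSheaf
import Groth.Agent.EtLimit.HMaps
import Groth.Agent.CAlgH3.Factorial
import Groth.Agent.TwistLib.TwistInv
import Groth.Agent.UfdExt24.Trivial
import Groth.Agent.S0236
import Groth.Prelude.Def_SixF3
import Groth.Agent.CAlgH3.RegularLocal
import Mathlib.RingTheory.RegularLocalRing.Defs
import Mathlib.RingTheory.UniqueFactorizationDomain.Kaplansky

/-!
# `H¹(U, μ_n)` for the complement of a regular parameter in a strictly henselian regular local ring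
-/

set_option autoImplicit false
set_option linter.all false
set_option backward.isDefEq.respectTransparency.types false
set_option backward.isDefEq.respectTransparency false

universe u

open CategoryTheory CategoryTheory.Limits CategoryTheory.Abelian AlgebraicGeometry Opposite

namespace Groth.Agent.Et18.KummerH1

open HenselLib.Kummer in
/-- `H¹(S, μ_n)` when `H¹(S, G_m) = 0` and the units modulo `n`-th powers are cyclic of order `n`. -/
theorem nonempty_H1_mu_equiv {S : Scheme.{u}} (n : ℕ) (hn0 : 0 < n) (hn : IsUnit (n : Γ(S, ⊤)))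
    [Subsingleton (EtCoh.H S (EtCoh.Gm S) 1)] (z : Γ(S, ⊤)ˣ)
    (hgen : ∀ v : Γ(S, ⊤)ˣ, ∃ (k : ℕ) (w : Γ(S, ⊤)ˣ), v = z ^ k * w ^ n)
    (hker : ∀ (k : ℕ) (w : Γ(S, ⊤)ˣ), z ^ k = w ^ n → n ∣ k) :
    Nonempty (EtCoh.H S (EtCoh.mu S n) 1 ≃+ ZMod n) := by
  haveI : NeZero n := ⟨by omega⟩
  have hepi := epi_powMap n hn
  have hS := EtSix.kummerShortExact hepi
  have hμ : n • 𝟙 (EtCoh.mu S n) = 0 := by
    haveI : Mono (EtCoh.muι S n) := hS.mono_f
    rw [← cancel_mono (EtCoh.muι S n), Preadditive.nsmul_comp, Category.id_comp, Limits.zero_comp]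
    have h : EtCoh.muι S n ≫ EtCoh.powMap S n = 0 := kernel.condition _
    rw [EtCoh.powMap, Preadditive.comp_nsmul, Category.comp_id] at h
    exact h
  have htor : ∀ c : EtCoh.H S (EtCoh.mu S n) 1, n • c = 0 := fun c => by
    have h1 : c.comp (Ext.mk₀ (n • 𝟙 (EtCoh.mu S n))) (add_zero 1) = n • c := by
      rw [show Ext.mk₀ (n • 𝟙 (EtCoh.mu S n)) = n • Ext.mk₀ (𝟙 (EtCoh.mu S n)) from
        map_nsmul (Ext.addEquiv₀ (X := EtCoh.mu S n) (Y := EtCoh.mu S n)).symm n _]
      exact (map_nsmul ((Ext.bilinearComp _ _ _ 1 0 1 (add_zero 1)) c) n _).trans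
        (congrArg (n • ·) (Ext.comp_mk₀_id c))
    rw [← h1, hμ, Ext.mk₀_zero, Ext.comp_zero]
  -- units and degree zero
  let G := EtCoh.Gm S
  let Φ₀ : (EtCoh.const S ℤ ⟶ G) →+ EtCoh.sect G (EtCoh.top S) :=
    AddMonoidHom.mk' EtLimit.secOf fun a b => by
      show (((EtCore.constAdj S).homEquiv _ _) (a + b)) (ULift.up 1) = _
      rw [Adjunction.homEquiv_unit]
      show _ = ((EtCore.constAdj S).homEquiv _ _ a) (ULift.up 1) + ((EtCore.constAdj S).homEquiv _ _ b) (ULift.up 1)
      rw [Adjunction.homEquiv_unit, Adjunction.homEquiv_unit]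
      rfl
  have hΦ₀ : Function.Bijective Φ₀ := ⟨fun _ _ => EtLimit.secOf_injective, EtLimit.exists_secOf⟩
  let E : EtCoh.sect G (EtCoh.top S) ≃+ EtCoh.H S G 0 :=
    (AddEquiv.ofBijective Φ₀ hΦ₀).symm.trans Ext.addEquiv₀.symm
  let pt : Γ(S, ⊤)ˣ → EtCoh.H S G 0 := fun v => E (sec (U := EtCoh.top S) v)
  have hpow : ∀ v k, pt (v ^ k) = k • pt v := fun v k =>
    (congrArg E (sec_pow (U := EtCoh.top S) v k)).trans (map_nsmul E k _)
  have hmul : ∀ v w, pt (v * w) = pt v + pt w := fun v w => map_add E _ _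
  let δ : EtCoh.H S G 0 →+ EtCoh.H S (EtCoh.mu S n) 1 := EtSix.kummerBoundary hepi 0
  let g := δ (pt z)
  let ψ : ZMod n →+ EtCoh.H S (EtCoh.mu S n) 1 := ZMod.lift n ⟨zmultiplesHom _ g, by
    show (n : ℤ) • g = 0
    rw [natCast_zsmul, htor]⟩
  have hψ : ∀ k : ℕ, ψ (k : ZMod n) = k • g := fun k => by
    rw [← Int.cast_natCast, ZMod.lift_coe]
    exact natCast_zsmul g k
  refine ⟨(AddEquiv.ofBijective ψ ⟨?_, fun c => ?_⟩).symm⟩
  · refine (injective_iff_map_eq_zero ψ).mpr fun a ha => ?_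
    rw [← ZMod.natCast_zmod_val a] at ha ⊢
    rw [hψ, ← map_nsmul, ← hpow] at ha
    obtain ⟨w₀, hw₀⟩ := Ext.covariant_sequence_exact₃ (EtCoh.const S ℤ) hS (pt (z ^ a.val)) rfl ha
    obtain ⟨v, hv⟩ := sec_surjective (E.symm w₀)
    have hw : w₀ = pt v := by
      show w₀ = E (sec v)
      rw [hv, AddEquiv.apply_symm_apply]
    have hnw : Ext.comp w₀ (Ext.mk₀ (EtCoh.powMap S n)) (add_zero 0) = n • w₀ := by
      rw [show Ext.mk₀ (EtCoh.powMap S n) = n • Ext.mk₀ (𝟙 (EtCoh.Gm S)) from
        map_nsmul (Ext.addEquiv₀ (X := EtCoh.Gm S) (Y := EtCoh.Gm S)).symm n _]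
      exact (map_nsmul ((Ext.bilinearComp _ _ _ 0 0 0 (add_zero 0)) w₀) n _).trans
        (congrArg (n • ·) (Ext.comp_mk₀_id w₀))
    have e : pt (z ^ a.val) = pt (v ^ n) := by
      rw [hpow v, ← hw]
      exact hw₀.symm.trans hnw
    obtain ⟨d, hd⟩ := hker _ v (sec_injective (U := EtCoh.top S) (E.injective e))
    rw [hd, Nat.cast_mul, ZMod.natCast_self, zero_mul]
  · obtain ⟨y, hy⟩ := Ext.covariant_sequence_exact₁ (EtCoh.const S ℤ) hS c (Subsingleton.elim (α := EtCoh.H S (EtCoh.Gm S) 1) _ _) (n₀ := 0) rfl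
    obtain ⟨v, hv⟩ := sec_surjective (E.symm y)
    obtain ⟨k, w, rfl⟩ := hgen v
    refine ⟨(k : ZMod n), ?_⟩
    have hy' : y = k • pt z + n • pt w := by
      rw [← hpow, ← hpow, ← hmul]
      exact (E.apply_symm_apply y).symm.trans (congrArg E hv.symm)
    rw [hψ, show c = δ y from hy.symm, hy', map_add, map_nsmul, map_nsmul, htor, add_zero]

/-- Invertible modules on the spectrum of a factorial domain are trivial. -/
theorem invertible_trivial (B : Type u) [CommRing B] [IsDomain B] [UniqueFactorizationMonoid B]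
    (L : (Spec (CommRingCat.of B)).Modules) (hL : PicF.IsInvertible L) :
    Nonempty (L ≅ Coh.structureModule (Spec (CommRingCat.of B))) := by
  have : IsDomain Γ(Spec (CommRingCat.of B), ⊤) :=
    (Scheme.ΓSpecIso (CommRingCat.of B)).commRingCatIsoToRingEquiv.toMulEquiv.isDomain _
  have : UniqueFactorizationMonoid Γ(Spec (CommRingCat.of B), ⊤) :=
    (Scheme.ΓSpecIso (CommRingCat.of B)).commRingCatIsoToRingEquiv.symm.toMulEquiv.uniqueFactorizationMonoid
      inferInstance
  obtain ⟨s, hs⟩ := UfdExt24.exists_gen_of_affine_ufd (isAffineOpen_top (Spec (CommRingCat.of B))) (U := ⊤) le_top L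
    fun y _ => by
      obtain ⟨V, hy, s, hs⟩ := PicLib.exists_isGen hL y
      exact ⟨V, hy, le_top, s, hs⟩
  exact TwistLib.nonempty_iso_of_isGen_top hs

theorem exists_pow_eq_of_isUnit (A : Type u) [CommRing A] [HenselianLocalRing A]
    [IsSepClosed (IsLocalRing.ResidueField A)] (n : ℕ) (hn : IsUnit (n : A)) (v : A) (hv : IsUnit v) :
    ∃ w : A, IsUnit w ∧ w ^ n = v := by
  have hn' : (n : IsLocalRing.ResidueField A) ≠ 0 := by
    rw [← map_natCast (IsLocalRing.residue A)]
    exact (hn.map _).ne_zero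
  have hn0 : n ≠ 0 := fun h => hn' (by rw [h, Nat.cast_zero])
  haveI : NeZero (n : IsLocalRing.ResidueField A) := ⟨hn'⟩
  obtain ⟨r, hr⟩ := IsSepClosed.exists_pow_nat_eq (IsLocalRing.residue A v) n
  obtain ⟨r, rfl⟩ := IsLocalRing.residue_surjective r
  have hru : IsUnit r := by
    rw [← IsLocalRing.residue_ne_zero_iff_isUnit]
    intro h
    rw [h, zero_pow hn0] at hr
    exact (hv.map (IsLocalRing.residue A)).ne_zero hr.symm
  obtain ⟨w, hw, hwr⟩ := HenselianLocalRing.is_henselian (R := A) (Polynomial.X ^ n - Polynomial.C v)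
    (Polynomial.monic_X_pow_sub_C v hn0) r (by
      rw [← IsLocalRing.residue_eq_zero_iff]
      simp [hr]) (by
      simp only [Polynomial.derivative_sub, Polynomial.derivative_X_pow, Polynomial.derivative_C, sub_zero,
        Polynomial.eval_mul, Polynomial.eval_C, Polynomial.eval_pow, Polynomial.eval_X]
      exact hn.mul (hru.pow _))
  have hwv : w ^ n = v := by simpa [Polynomial.IsRoot, sub_eq_zero] using hw
  exact ⟨w, (isUnit_pow_iff hn0).mp (hwv ▸ hv), hwv⟩

theorem units_gen (A : Type u) [CommRing A] [IsDomain A] [UniqueFactorizationMonoid A] [HenselianLocalRing A]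
    [IsSepClosed (IsLocalRing.ResidueField A)] (n : ℕ) (hn0 : 0 < n) (hn : IsUnit (n : A)) (x : A) (hx : Prime x)
    (z : (Localization.Away x)ˣ) (hz : (z : Localization.Away x) = algebraMap A _ x) (u₀ : (Localization.Away x)ˣ) :
    ∃ (k : ℕ) (w : (Localization.Away x)ˣ), u₀ = z ^ k * w ^ n := by
  let B := Localization.Away x
  have hinj : Function.Injective (algebraMap A B) :=
    IsLocalization.injective B (powers_le_nonZeroDivisors_of_noZeroDivisors hx.ne_zero)
  obtain ⟨m, a, ha⟩ := IsLocalization.Away.surj (S := B) x (u₀ : B)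
  obtain ⟨m', b, hb⟩ := IsLocalization.Away.surj (S := B) x ((u₀⁻¹ : Bˣ) : B)
  have hab : a * b = x ^ (m + m') := hinj (by
    rw [map_mul, map_pow, ← ha, ← hb, mul_mul_mul_comm, ← pow_add, Units.mul_inv, one_mul])
  obtain ⟨j, -, hj⟩ := (dvd_prime_pow hx _).mp ⟨b, hab.symm⟩
  obtain ⟨v, hv⟩ := hj.symm
  obtain ⟨w, hw, hwv⟩ := exists_pow_eq_of_isUnit A n hn v v.isUnit
  let w' : Bˣ := (hw.map (algebraMap A B)).unit * (z ^ m)⁻¹
  refine ⟨j + (n - 1) * m, w', ?_⟩
  have h1 : u₀ * z ^ m = z ^ j * (hw.map (algebraMap A B)).unit ^ n := by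
    ext
    simp only [Units.val_mul, Units.val_pow_eq_pow_val, hz, IsUnit.unit_spec]
    rw [ha, ← hv, ← hwv, map_mul, map_pow, map_pow]
  have h2 : z ^ (n * m) = z ^ ((n - 1) * m) * z ^ m := by
    rw [← pow_add, ← Nat.succ_mul, Nat.succ_eq_add_one, Nat.sub_add_cancel hn0]
  rw [show w' ^ n = (hw.map (algebraMap A B)).unit ^ n * (z ^ (n * m))⁻¹ by
    rw [mul_pow, inv_pow, ← pow_mul, mul_comm m n]]
  rw [pow_add, h2, mul_assoc, mul_left_comm (z ^ ((n - 1) * m)), ← mul_assoc, ← h1]
  rw [mul_inv, ← mul_assoc (z ^ ((n - 1) * m)), mul_inv_cancel, one_mul, mul_inv_cancel_right]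

theorem units_ker (A : Type u) [CommRing A] [IsDomain A] [UniqueFactorizationMonoid A] (n : ℕ) (x : A)
    (hx : Prime x) (z : (Localization.Away x)ˣ) (hz : (z : Localization.Away x) = algebraMap A _ x) (k : ℕ)
    (w : (Localization.Away x)ˣ) (h : z ^ k = w ^ n) : n ∣ k := by
  let B := Localization.Away x
  have hinj : Function.Injective (algebraMap A B) :=
    IsLocalization.injective B (powers_le_nonZeroDivisors_of_noZeroDivisors hx.ne_zero)
  obtain ⟨m, a, ha⟩ := IsLocalization.Away.surj (S := B) x (w : B)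
  have hpow : a ^ n = x ^ (k + m * n) := hinj (by
    rw [map_pow, ← ha, map_pow, mul_pow, ← pow_mul, pow_add]
    congr 1
    have := congrArg (fun t : Bˣ => (t : B)) h
    simp only [Units.val_pow_eq_pow_val, hz] at this
    exact this.symm)
  by_cases hn : n = 0
  · subst hn
    rw [pow_zero, mul_zero, add_zero] at hpow
    rcases Nat.eq_zero_or_pos k with hk | hk
    · simp [hk]
    · exact absurd (isUnit_of_dvd_one (hpow ▸ dvd_pow_self x hk.ne')) hx.not_unit
  obtain ⟨j, -, hj⟩ := (dvd_prime_pow hx _).mp (hpow ▸ dvd_pow_self a hn)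
  have := hj.pow_pow (n := n)
  rw [hpow, ← pow_mul] at this
  have e1 := (pow_dvd_pow_iff hx.ne_zero hx.not_unit).mp this.dvd
  have e2 := (pow_dvd_pow_iff hx.ne_zero hx.not_unit).mp this.symm.dvd
  have e : k + m * n = j * n := le_antisymm e1 e2
  exact (Nat.dvd_add_left (dvd_mul_left n m)).mp (e ▸ dvd_mul_left n j)

theorem ufm_away (A : Type u) [CommRing A] [IsDomain A] [UniqueFactorizationMonoid A] (x : A)
    [IsDomain (Localization.Away x)] : UniqueFactorizationMonoid (Localization.Away x) := by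
  refine UniqueFactorizationMonoid.iff_exists_prime_mem_of_isPrime.mpr fun q hq hqp => ?_
  let P := q.comap (algebraMap A (Localization.Away x))
  haveI : q.IsPrime := hqp
  have hP : P ≠ ⊥ := fun h => hq (by
    rw [← IsLocalization.map_comap (Submonoid.powers x) (Localization.Away x) q]
    exact (congrArg (Ideal.map _) h).trans Ideal.map_bot)
  obtain ⟨p, hp, hpp⟩ := Ideal.IsPrime.exists_mem_prime_of_ne_bot (inferInstanceAs P.IsPrime) hP
  refine ⟨algebraMap A _ p, hp, ?_⟩
  have hd : Disjoint (Submonoid.powers x : Set A) ↑(Ideal.span {p}) := by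
    refine Set.disjoint_left.mpr fun a ha hap => ?_
    obtain ⟨k, rfl⟩ := ha
    have hxq : algebraMap A (Localization.Away x) (x ^ k) ∈ q :=
      (Ideal.span_singleton_le_iff_mem P).mpr hp hap
    exact hqp.ne_top (Ideal.eq_top_of_isUnit_mem _ hxq
      (IsLocalization.map_units (Localization.Away x) (⟨x ^ k, k, rfl⟩ : Submonoid.powers x)))
  have hI : Function.Injective (algebraMap A (Localization.Away x)) := by
    refine IsLocalization.injective (M := Submonoid.powers x) _ (powers_le_nonZeroDivisors_of_noZeroDivisors fun h => ?_)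
    exact hqp.ne_top (Ideal.eq_top_of_isUnit_mem _ (x := algebraMap A (Localization.Away x) x) ((congrArg (algebraMap A (Localization.Away x)) h).trans (map_zero _) ▸ zero_mem q)
      (IsLocalization.Away.algebraMap_isUnit (S := Localization.Away x) x))
  rw [← Ideal.span_singleton_prime ((map_ne_zero_iff _ hI).mpr hpp.ne_zero), ← Set.image_singleton, ← Ideal.map_span]
  exact IsLocalization.isPrime_of_isPrime_disjoint _ _ _ ((Ideal.span_singleton_prime hpp.ne_zero).mpr hpp) hd

theorem main (A : Type u) [CommRing A] [IsRegularLocalRing A]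
    (hA : EtCoh.IsStrictlyHenselianLocalRing A) (x : A) (hx : x ∈ IsLocalRing.maximalIdeal A)
    (hx2 : x ∉ (IsLocalRing.maximalIdeal A) ^ 2) (n : ℕ) (hn : IsUnit (n : A)) :
    Nonempty (EtCoh.H (Spec (CommRingCat.of (Localization.Away x)))
      (EtCoh.mu (Spec (CommRingCat.of (Localization.Away x))) n) 1 ≃+ ZMod n) := by
  obtain ⟨hh, hsc⟩ := hA
  haveI := hh
  haveI := hsc
  haveI : IsDomain A := CAlgH3.isDomain_of_isRegularLocalRing A
  haveI : UniqueFactorizationMonoid A := CAlgH3.ufm_of_regular A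
  have hx0 : x ≠ 0 := fun h => hx2 (h ▸ zero_mem _)
  have hirr : Irreducible x := by
    refine ⟨(IsLocalRing.mem_maximalIdeal _).mp hx, fun a b hab => ?_⟩
    by_contra hc
    rw [not_or] at hc
    exact hx2 (hab ▸ pow_two (IsLocalRing.maximalIdeal A) ▸
      Ideal.mul_mem_mul ((IsLocalRing.mem_maximalIdeal a).mpr hc.1) ((IsLocalRing.mem_maximalIdeal b).mpr hc.2))
  have hxp : Prime x := UniqueFactorizationMonoid.irreducible_iff_prime.mp hirr
  let B := Localization.Away x
  have hM := powers_le_nonZeroDivisors_of_noZeroDivisors hx0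
  haveI : IsDomain B := IsLocalization.isDomain_localization hM
  haveI : UniqueFactorizationMonoid B := ufm_away A x
  let S := Spec (CommRingCat.of B)
  haveI : Subsingleton (EtCoh.H S (EtCoh.Gm S) 1) := (S0236.result S).mpr (invertible_trivial B)
  have hn0 : 0 < n := Nat.pos_of_ne_zero fun h => not_isUnit_zero (M₀ := A) (by simpa [h] using hn)
  let e : B ≃+* Γ(S, ⊤) := (Scheme.ΓSpecIso (CommRingCat.of B)).commRingCatIsoToRingEquiv.symm
  let eU : Bˣ ≃* Γ(S, ⊤)ˣ := Units.mapEquiv e.toMulEquiv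
  let z : Bˣ := (IsLocalization.Away.algebraMap_isUnit (S := B) x).unit
  have hnS : IsUnit (n : Γ(S, ⊤)) := by
    have := (hn.map (algebraMap A B)).map e.toRingHom
    rwa [map_natCast, map_natCast] at this
  refine nonempty_H1_mu_equiv n hn0 hnS (eU z) (fun v => ?_) (fun k w h => ?_)
  · obtain ⟨k, w, hkw⟩ := units_gen A n hn0 hn x hxp z rfl (eU.symm v)
    exact ⟨k, eU w, by rw [← map_pow, ← map_pow, ← map_mul, ← hkw, MulEquiv.apply_symm_apply]⟩
  · refine units_ker A n x hxp z rfl k (eU.symm w) (eU.injective ?_)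
    rw [map_pow, map_pow, MulEquiv.apply_symm_apply]
    exact h

end Groth.Agent.Et18.KummerH1
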